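import Mathlib.AlgebraicGeometry.Stalk
import Mathlib.AlgebraicGeometry.Morphisms.Preimmersion
import Mathlib.AlgebraicGeometry.Morphisms.FiniteType
import Mathlib.AlgebraicGeometry.Noetherian
import Groth.Agent.GrpSchLib.Tangent
import Mathlib.LinearAlgebra.FreeModule.Finite.Matrix
import Mathlib.RingTheory.Ideal.Cotangent
import Mathlib.RingTheory.DualNumber

/-!
# The tangent space at the unit of a group scheme from its dual number points
-/

noncomputable section

set_option autoImplicit false
set_option linter.style.haveILetI false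
set_option linter.unusedSectionVars false
set_option backward.isDefEq.respectTransparency false
set_option backward.isDefEq.respectTransparency.types false
set_option maxHeartbeats 800000

universe u

open CategoryTheory CategoryTheory.Limits MonoidalCategory CartesianMonoidalCategory MonObj AlgebraicGeometry IsLocalRing TrivSqZeroExt
open scoped DualNumber CategoryTheory.Obj

namespace Groth.Agent.PicTangent

open Groth.Agent.GrpSchLib

variable {k : Type u} [Field k] {K : Type u} [Field K] [Algebra k K]

instance isLocalRing_tsze (M : Type u) [AddCommGroup M] [Module K M] [Module Kᵐᵒᵖ M] [IsCentralScalar K M] :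
    IsLocalRing (TrivSqZeroExt K M) :=
  IsLocalRing.of_isUnit_or_isUnit_one_sub_self fun x => by
    rw [TrivSqZeroExt.isUnit_iff_isUnit_fst, TrivSqZeroExt.isUnit_iff_isUnit_fst, fst_sub, fst_one]
    exact IsLocalRing.isUnit_or_isUnit_one_sub_self x.fst

/-- The scalars in a stalk. -/
def scalAt (B : Over (Spec (CommRingCat.of k))) (x : B.left) : k →+* B.left.presheaf.stalk x :=
  (Spec.preimage (R := CommRingCat.of k) (S := B.left.presheaf.stalk x) (B.left.fromSpecStalk x ≫ B.hom)).hom

theorem scalAt_spec (B : Over (Spec (CommRingCat.of k))) (x : B.left) :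
    Spec.map (CommRingCat.ofHom (scalAt B x)) = B.left.fromSpecStalk x ≫ B.hom :=
  Spec.map_preimage _

theorem exists_stalk_hom {X : Scheme.{u}} {C : Type u} [CommRing C] [IsLocalRing C]
    (f : Spec (CommRingCat.of C) ⟶ X) {y : X} (hy : f (closedPoint C) = y) :
    ∃ a : X.presheaf.stalk y →+* C, Spec.map (CommRingCat.ofHom a) ≫ X.fromSpecStalk y = f := by
  subst hy
  exact ⟨(Scheme.stalkClosedPointTo f).hom, Scheme.Spec_stalkClosedPointTo_fromSpecStalk f⟩

theorem stalk_hom_ext {Y : Scheme.{u}} {y : Y} {C : Type u} [CommRing C] {a b : Y.presheaf.stalk y →+* C}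
    (h : Spec.map (CommRingCat.ofHom a) ≫ Y.fromSpecStalk y = Spec.map (CommRingCat.ofHom b) ≫ Y.fromSpecStalk y) :
    a = b :=
  congrArg CommRingCat.Hom.hom (Spec.map_injective ((cancel_mono _).1 h))

theorem exists_ev {X : Over (Spec (CommRingCat.of k))} (σ : 𝟙_ (Over (Spec (CommRingCat.of k))) ⟶ X) {s : X.left}
    (hs : σ.left (closedPoint k) = s) :
    ∃ ev : X.left.presheaf.stalk s →+* k, RingHom.ker ev = maximalIdeal (X.left.presheaf.stalk s) ∧
      ev.comp (scalAt X s) = RingHom.id k ∧ Spec.map (CommRingCat.ofHom ev) ≫ X.left.fromSpecStalk s = σ.left := by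
  obtain ⟨ev, hev⟩ := exists_stalk_hom (C := k) σ.left hs
  have h : ev.comp (scalAt X s) = RingHom.id k := by
    refine congrArg CommRingCat.Hom.hom (Spec.map_injective
      (show Spec.map (CommRingCat.ofHom (ev.comp (scalAt X s))) = Spec.map (𝟙 (CommRingCat.of k)) from ?_))
    rw [CommRingCat.ofHom_comp, Spec.map_comp, scalAt_spec, ← Category.assoc, hev, Spec.map_id]
    exact Over.w σ
  haveI : (RingHom.ker ev).IsMaximal :=
    RingHom.ker_isMaximal_of_surjective _ fun x => ⟨scalAt X s x, RingHom.congr_fun h x⟩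
  exact ⟨ev, IsLocalRing.eq_maximalIdeal inferInstance, h, hev⟩

variable (k) in
/-- The projection to the residue field. -/
def sp (M : Type u) [AddCommGroup M] [Module K M] [Module Kᵐᵒᵖ M] [IsCentralScalar K M] [Module k M]
    [IsScalarTower k K M] [IsScalarTower k Kᵐᵒᵖ M] : TrivSqZeroExt K M →ₐ[k] K :=
  { (fstHom K K M).toRingHom with commutes' := fun _ => rfl }

variable (k) in
/-- A linear map of infinitesimals. -/
def tmap {M N : Type u} [AddCommGroup M] [Module K M] [Module Kᵐᵒᵖ M] [IsCentralScalar K M] [Module k M]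
    [IsScalarTower k K M] [IsScalarTower k Kᵐᵒᵖ M] [AddCommGroup N] [Module K N] [Module Kᵐᵒᵖ N]
    [IsCentralScalar K N] [Module k N] [IsScalarTower k K N] [IsScalarTower k Kᵐᵒᵖ N] (f : M →ₗ[K] N) :
    TrivSqZeroExt K M →ₐ[k] TrivSqZeroExt K N :=
  { (TrivSqZeroExt.map f).toRingHom with commutes' := fun c => TrivSqZeroExt.map_inl f (algebraMap k K c) }

variable (k) in
/-- The inclusion of the residue field. -/
def inlK : K →ₐ[k] DualNumber K :=
  { TrivSqZeroExt.inlHom K K with commutes' := fun _ => rfl }

variable (k) in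
/-- Scaling of the infinitesimal. -/
def psi (a : K) : DualNumber K →ₐ[k] DualNumber K := tmap k (a • (LinearMap.id : K →ₗ[K] K))

variable (G : Over (Spec (CommRingCat.of k))) [GrpObj G]

/-- The unit point. -/
abbrev e0 : G.left := η[G].left (closedPoint k)

theorem one_left (C : Type u) [CommRing C] [Algebra k C] :
    (1 : specOver k C ⟶ G).left = Spec.map (CommRingCat.ofHom (algebraMap k C)) ≫ η[G].left := by
  show (toUnit (specOver k C) ≫ η[G]).left = _
  rfl

theorem exists_hom {M : Type u} [AddCommGroup M] [Module K M] [Module Kᵐᵒᵖ M] [IsCentralScalar K M] [Module k M]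
    [IsScalarTower k K M] [IsScalarTower k Kᵐᵒᵖ M]
    {ev : G.left.presheaf.stalk (e0 G) →+* k}
    (hev : Spec.map (CommRingCat.ofHom ev) ≫ G.left.fromSpecStalk (e0 G) = η[G].left)
    (g : specOver k (TrivSqZeroExt K M) ⟶ G) (hg : specHom (sp k M) ≫ g = 1) :
    ∃ h : G.left.presheaf.stalk (e0 G) →+* TrivSqZeroExt K M,
      Spec.map (CommRingCat.ofHom h) ≫ G.left.fromSpecStalk (e0 G) = g.left ∧
      (∀ r, (h r).fst = algebraMap k K (ev r)) ∧
      ∀ c, h (scalAt G (e0 G) c) = algebraMap k (TrivSqZeroExt K M) c := by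
  have hl : Spec.map (CommRingCat.ofHom (sp k M).toRingHom) ≫ g.left =
      Spec.map (CommRingCat.ofHom (algebraMap k K)) ≫ η[G].left := by
    rw [← one_left G K]
    exact congrArg (·.left) hg
  haveI : IsLocalHom (sp k M : TrivSqZeroExt K M →ₐ[k] K).toRingHom :=
    IsLocalHom.of_surjective _ fun x => ⟨inl x, fst_inl M x⟩
  have hpt : g.left (closedPoint (TrivSqZeroExt K M)) = e0 G := by
    rw [← IsLocalRing.comap_closedPoint (sp k M).toRingHom]
    show g.left (Spec.map (CommRingCat.ofHom (sp k M).toRingHom)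
      (show ↥(Spec (CommRingCat.of K)) from closedPoint K)) = _
    exact (congr($hl (show ↥(Spec (CommRingCat.of K)) from closedPoint K))).trans
      (congrArg η[G].left (@Subsingleton.elim (Spec (CommRingCat.of k)) inferInstance _ _))
  obtain ⟨h, hh⟩ := exists_stalk_hom g.left hpt
  refine ⟨h, hh, fun r => ?_, fun c => ?_⟩
  · have h1 : (sp k M).toRingHom.comp h = (algebraMap k K).comp ev := stalk_hom_ext (by
      rw [CommRingCat.ofHom_comp, CommRingCat.ofHom_comp, Spec.map_comp, Spec.map_comp, Category.assoc, Category.assoc,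
        hh, hev, hl])
    exact RingHom.congr_fun h1 r
  · have h1 : h.comp (scalAt G (e0 G)) = algebraMap k (TrivSqZeroExt K M) :=
      congrArg CommRingCat.Hom.hom (Spec.map_injective
        (show Spec.map (CommRingCat.ofHom (h.comp (scalAt G (e0 G)))) =
          Spec.map (CommRingCat.ofHom (algebraMap k (TrivSqZeroExt K M))) by
        rw [CommRingCat.ofHom_comp, Spec.map_comp, scalAt_spec, ← Category.assoc, hh]
        exact Over.w g))
    exact RingHom.congr_fun h1 c

theorem hom_ext {C : Type u} [CommRing C] [Algebra k C] {g g' : specOver k C ⟶ G}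
    {h h' : G.left.presheaf.stalk (e0 G) →+* C}
    (hh : Spec.map (CommRingCat.ofHom h) ≫ G.left.fromSpecStalk (e0 G) = g.left)
    (hh' : Spec.map (CommRingCat.ofHom h') ≫ G.left.fromSpecStalk (e0 G) = g'.left) (he : g = g') : h = h' :=
  stalk_hom_ext (hh.trans ((congrArg (·.left) he).trans hh'.symm))

theorem comp_hom {C C' : Type u} [CommRing C] [Algebra k C] [CommRing C'] [Algebra k C'] (φ : C →ₐ[k] C')
    {g : specOver k C ⟶ G} {h : G.left.presheaf.stalk (e0 G) →+* C}
    (hh : Spec.map (CommRingCat.ofHom h) ≫ G.left.fromSpecStalk (e0 G) = g.left) :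
    Spec.map (CommRingCat.ofHom (φ.toRingHom.comp h)) ≫ G.left.fromSpecStalk (e0 G) = (specHom φ ≫ g).left := by
  rw [CommRingCat.ofHom_comp, Spec.map_comp, Category.assoc, hh]
  rfl

theorem specHom_id' (C : Type u) [CommRing C] [Algebra k C] : specHom (AlgHom.id k C) = 𝟙 (specOver k C) := by
  ext1
  simp

theorem add_snd {ev : G.left.presheaf.stalk (e0 G) →+* k}
    (hev : Spec.map (CommRingCat.ofHom ev) ≫ G.left.fromSpecStalk (e0 G) = η[G].left)
    {g₁ g₂ : specOver k (DualNumber K) ⟶ G} (h₁ : specHom (sp k K) ≫ g₁ = 1) (h₂ : specHom (sp k K) ≫ g₂ = 1)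
    {a₁ a₂ a₃ : G.left.presheaf.stalk (e0 G) →+* DualNumber K}
    (e₁ : Spec.map (CommRingCat.ofHom a₁) ≫ G.left.fromSpecStalk (e0 G) = g₁.left)
    (e₂ : Spec.map (CommRingCat.ofHom a₂) ≫ G.left.fromSpecStalk (e0 G) = g₂.left)
    (e₃ : Spec.map (CommRingCat.ofHom a₃) ≫ G.left.fromSpecStalk (e0 G) = (g₁ * g₂).left)
    (r : G.left.presheaf.stalk (e0 G)) : (a₃ r).snd = (a₁ r).snd + (a₂ r).snd := by
  let m₁ : DualNumber K →ₐ[k] TrivSqZeroExt K (K × K) := tmap k (LinearMap.inl K K K)
  let m₂ : DualNumber K →ₐ[k] TrivSqZeroExt K (K × K) := tmap k (LinearMap.inr K K K)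
  let q₁ : TrivSqZeroExt K (K × K) →ₐ[k] DualNumber K := tmap k (LinearMap.fst K K K)
  let q₂ : TrivSqZeroExt K (K × K) →ₐ[k] DualNumber K := tmap k (LinearMap.snd K K K)
  let sm : TrivSqZeroExt K (K × K) →ₐ[k] DualNumber K := tmap k (LinearMap.fst K K K + LinearMap.snd K K K)
  let H : specOver k (TrivSqZeroExt K (K × K)) ⟶ G := specHom m₁ ≫ g₁ * specHom m₂ ≫ g₂
  have hc : ∀ (φ : TrivSqZeroExt K (K × K) →ₐ[k] DualNumber K) (m : DualNumber K →ₐ[k] TrivSqZeroExt K (K × K))
      (g : specOver k (DualNumber K) ⟶ G), specHom (sp k K) ≫ g = 1 →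
      φ.comp m = (inlK k).comp (sp k K) → specHom φ ≫ specHom m ≫ g = 1 := fun φ m g hg e => by
    rw [← Category.assoc, specHom_comp, e, ← specHom_comp, Category.assoc, hg, MonObj.comp_one]
  have hi : ∀ (φ : TrivSqZeroExt K (K × K) →ₐ[k] DualNumber K) (m : DualNumber K →ₐ[k] TrivSqZeroExt K (K × K))
      (g : specOver k (DualNumber K) ⟶ G),
      φ.comp m = AlgHom.id k _ → specHom φ ≫ specHom m ≫ g = g := fun φ m g e => by
    rw [← Category.assoc, specHom_comp, e, specHom_id', Category.id_comp]
  have hH : specHom (sp k (K × K)) ≫ H = 1 := by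
    rw [MonObj.comp_mul, ← Category.assoc, ← Category.assoc, specHom_comp, specHom_comp,
      show (sp k (K × K)).comp m₁ = sp k K from AlgHom.ext fun z => fst_map _ z,
      show (sp k (K × K)).comp m₂ = sp k K from AlgHom.ext fun z => fst_map _ z, h₁, h₂, _root_.mul_one]
  obtain ⟨a, ha, -, -⟩ := exists_hom G hev H hH
  have f1 : specHom q₁ ≫ H = g₁ := by
    rw [MonObj.comp_mul, hi q₁ m₁ g₁ (AlgHom.ext fun z => by ext <;> simp [q₁, m₁, tmap]),
      hc q₁ m₂ g₂ h₂ (AlgHom.ext fun z => by ext <;> simp [q₁, m₂, tmap, inlK, sp]), _root_.mul_one]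
  have f2 : specHom q₂ ≫ H = g₂ := by
    rw [MonObj.comp_mul, hi q₂ m₂ g₂ (AlgHom.ext fun z => by ext <;> simp [q₂, m₂, tmap]),
      hc q₂ m₁ g₁ h₁ (AlgHom.ext fun z => by ext <;> simp [q₂, m₁, tmap, inlK, sp]), _root_.one_mul]
  have f3 : specHom sm ≫ H = g₁ * g₂ := by
    rw [MonObj.comp_mul, hi sm m₁ g₁ (AlgHom.ext fun z => by ext <;> simp [sm, m₁, tmap]),
      hi sm m₂ g₂ (AlgHom.ext fun z => by ext <;> simp [sm, m₂, tmap])]
  rw [← hom_ext G (comp_hom G q₁ ha) e₁ f1, ← hom_ext G (comp_hom G q₂ ha) e₂ f2,
    ← hom_ext G (comp_hom G sm ha) e₃ f3]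
  show (TrivSqZeroExt.map _ (a r)).snd = (TrivSqZeroExt.map _ (a r)).snd + (TrivSqZeroExt.map _ (a r)).snd
  rw [snd_map, snd_map, snd_map]
  rfl

/-- The dual number points at the unit compute the cotangent space. -/
theorem finrank_cotangent_eq [LocallyOfFiniteType G.hom] (W : Type u) [AddCommGroup W] [Module K W]
    (α : W → (specOver k (DualNumber K) ⟶ G)) (hinj : Function.Injective α)
    (hrange : ∀ g, (∃ x, α x = g) ↔ specHom (sp k K) ≫ g = 1)
    (hadd : ∀ x y, α (x + y) = α x * α y) (hsmul : ∀ (a : K) x, α (a • x) = specHom (psi k a) ≫ α x) :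
    Module.finrank (ResidueField (G.left.presheaf.stalk (e0 G))) (CotangentSpace (G.left.presheaf.stalk (e0 G))) =
      Module.finrank K W := by
  classical
  haveI : IsLocallyNoetherian G.left := LocallyOfFiniteType.isLocallyNoetherian G.hom
  let R : Type u := G.left.presheaf.stalk (e0 G)
  obtain ⟨ev, hker, hevk, hev⟩ := exists_ev (X := G) η[G] (s := e0 G) rfl
  letI algR : Algebra k R := (scalAt G (e0 G)).toAlgebra
  have hevc : ∀ c : k, ev (algebraMap k R c) = c := fun c => RingHom.congr_fun hevk c
  have hmem : ∀ r : R, r - algebraMap k R (ev r) ∈ maximalIdeal R := fun r => by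
    rw [← hker, RingHom.mem_ker, map_sub, hevc, sub_self]
  have hbij : Function.Bijective (algebraMap k (ResidueField R)) :=
    ⟨(algebraMap k _).injective, fun y => by
      obtain ⟨r, rfl⟩ := IsLocalRing.residue_surjective y
      exact ⟨ev r, (Ideal.Quotient.eq.2 (hmem r)).symm⟩⟩
  let Cot := CotangentSpace R
  haveI : Module.Finite k (ResidueField R) := Module.Finite.of_surjective (Algebra.linearMap k _) hbij.2
  haveI : IsScalarTower k (ResidueField R) Cot := IsScalarTower.of_algebraMap_smul fun c v => by
    obtain ⟨a, rfl⟩ := (maximalIdeal R).toCotangent_surjective v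
    rfl
  haveI : Module.Finite k Cot := Module.Finite.trans (ResidueField R) Cot
  have hfin : Module.finrank k Cot = Module.finrank (ResidueField R) Cot := by
    rw [← Module.finrank_mul_finrank k (ResidueField R) Cot,
      (LinearEquiv.ofBijective (Algebra.linearMap k (ResidueField R)) hbij).finrank_eq.symm, Module.finrank_self,
      _root_.one_mul]
  rw [← hfin, show Module.finrank k Cot = Module.finrank K (Cot →ₗ[k] K) by
    rw [Module.finrank_linearMap k K Cot K, Module.finrank_self, _root_.mul_one]]
  have hα : ∀ x, specHom (sp k K) ≫ α x = 1 := fun x => (hrange _).1 ⟨x, rfl⟩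
  choose h hh hh1 hh2 using fun x => exists_hom G hev (α x) (hα x)
  have hm0 : ∀ x (a : R), a ∈ maximalIdeal R → (h x a).fst = 0 := fun x a ha => by
    rw [hh1, show ev a = 0 from (show a ∈ RingHom.ker ev by rw [hker]; exact ha), map_zero]
  let l : W → (maximalIdeal R →ₗ[k] K) := fun x =>
    { toFun := fun a => (h x a).snd
      map_add' := fun a b => by simp
      map_smul' := fun c a => by
        show (h x (algebraMap k R c * a)).snd = c • (h x a).snd
        rw [map_mul, show h x (algebraMap k R c) = algebraMap k _ c from hh2 x c, ← Algebra.smul_def, snd_smul] }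
  have hker2 : ∀ x, LinearMap.ker ((maximalIdeal R).toCotangent.restrictScalars k) ≤ LinearMap.ker (l x) := fun x => by
    intro a ha
    rw [LinearMap.mem_ker, LinearMap.restrictScalars_apply, Ideal.toCotangent_eq_zero, pow_two] at ha
    show (h x a).snd = 0
    refine Submodule.mul_induction_on ha (fun p hp q hq => ?_) (fun p q hp hq => by rw [map_add, snd_add, hp, hq, add_zero])
    rw [map_mul, TrivSqZeroExt.snd_mul, hm0 x p hp, hm0 x q hq]
    simp
  have hsurjT : Function.Surjective ((maximalIdeal R).toCotangent.restrictScalars k) :=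
    (maximalIdeal R).toCotangent_surjective
  have hex : ∀ x, ∃ f : Cot →ₗ[k] K, ∀ a, f ((maximalIdeal R).toCotangent a) = (h x a).snd := fun x => by
    refine ⟨((LinearMap.ker ((maximalIdeal R).toCotangent.restrictScalars k)).liftQ (l x) (hker2 x)).comp
      ((LinearMap.quotKerEquivOfSurjective _ hsurjT).symm.toLinearMap), fun a => ?_⟩
    have e : (LinearMap.quotKerEquivOfSurjective _ hsurjT).symm ((maximalIdeal R).toCotangent a) =
        Submodule.Quotient.mk a := (LinearEquiv.symm_apply_eq _).2 rfl
    exact (congrArg (Submodule.liftQ _ (l x) (hker2 x)) e).trans rfl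
  choose F hF using hex
  have extF : ∀ (f f' : Cot →ₗ[k] K), (∀ a, f ((maximalIdeal R).toCotangent a) = f' ((maximalIdeal R).toCotangent a)) →
      f = f' := fun f f' hf => LinearMap.ext fun v => by
    obtain ⟨a, rfl⟩ := (maximalIdeal R).toCotangent_surjective v
    exact hf a
  have hsm : ∀ (a : K) x, F (a • x) = a • F x := fun a x => extF _ _ fun r => by
    rw [hF, LinearMap.smul_apply, hF, hom_ext G (hh (a • x)) (comp_hom G (psi k a) (hh x)) (hsmul a x)]
    show (TrivSqZeroExt.map _ (h x r)).snd = _
    rw [snd_map]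
    rfl
  have hadd' : ∀ x y, F (x + y) = F x + F y := fun x y => extF _ _ fun r => by
    rw [hF, LinearMap.add_apply, hF, hF]
    exact add_snd G hev (hα x) (hα y) (hh x) (hh y) ((hh (x + y)).trans (congrArg (·.left) (hadd x y))) r
  let Θ : W →ₗ[K] (Cot →ₗ[k] K) := { toFun := F, map_add' := hadd', map_smul' := hsm }
  refine (LinearEquiv.ofBijective Θ ⟨fun x y hxy => hinj ?_, fun f => ?_⟩).finrank_eq.symm
  · refine Over.OverMorphism.ext ?_
    rw [← hh x, ← hh y]
    have hxy' : F x = F y := hxy
    congr 3
    refine RingHom.ext fun r => ?_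
    refine TrivSqZeroExt.ext (by rw [hh1, hh1]) ?_
    have e : ∀ z, (h z r).snd = F z ((maximalIdeal R).toCotangent ⟨_, hmem r⟩) := fun z => by
      rw [hF]
      show _ = (h z (r - algebraMap k R (ev r))).snd
      rw [map_sub, snd_sub, show h z (algebraMap k R (ev r)) = algebraMap k _ (ev r) from hh2 z (ev r),
        show (algebraMap k (DualNumber K) (ev r)).snd = 0 from rfl, sub_zero]
    rw [e x, e y, hxy']
  · let p : R → maximalIdeal R := fun r => ⟨r - algebraMap k R (ev r), hmem r⟩
    let q : R → K := fun r => f ((maximalIdeal R).toCotangent (p r))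
    have qadd : ∀ a b, q (a + b) = q a + q b := fun a b => by
      show f _ = f _ + f _
      rw [← map_add, ← map_add]
      congr 2
      apply Subtype.ext
      simp only [p, Submodule.coe_add, map_add]
      ring
    have qmul : ∀ a b, q (a * b) = ev a • q b + ev b • q a := fun a b => by
      let T : maximalIdeal R →ₗ[k] Cot := (maximalIdeal R).toCotangent.restrictScalars k
      show f (T _) = ev a • f (T _) + ev b • f (T _)
      have e : T (p (a * b)) = ev a • T (p b) + ev b • T (p a) := by
        rw [← map_smul T, ← map_smul T, ← map_add T, ← sub_eq_zero, ← map_sub T]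
        show (maximalIdeal R).toCotangent _ = 0
        rw [Ideal.toCotangent_eq_zero, pow_two]
        have : ((p (a * b) - (ev a • p b + ev b • p a) : maximalIdeal R) : R) = (p a : R) * (p b : R) := by
          show (a * b - algebraMap k R (ev (a * b))) - (algebraMap k R (ev a) * (b - algebraMap k R (ev b)) +
            algebraMap k R (ev b) * (a - algebraMap k R (ev a))) =
            (a - algebraMap k R (ev a)) * (b - algebraMap k R (ev b))
          rw [map_mul, map_mul]
          ring
        rw [this]
        exact Ideal.mul_mem_mul (p a).2 (p b).2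
      rw [e, map_add, map_smul, map_smul]
    let hf : R →+* DualNumber K :=
      { toFun := fun r => inl (algebraMap k K (ev r)) + inr (q r)
        map_one' := by
          have h1 : q 1 = 0 := by
            have := qmul 1 1
            simpa using this
          simp [h1]
        map_mul' := fun a b => by
          refine TrivSqZeroExt.ext ?_ ?_
          · simp only [fst_mul, fst_add, fst_inl, fst_inr, add_zero, map_mul]
          · simp only [snd_mul, fst_add, snd_add, fst_inl, fst_inr, snd_inl, snd_inr, zero_add, add_zero,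
              smul_eq_mul, MulOpposite.smul_eq_mul_unop, MulOpposite.unop_op, qmul, Algebra.smul_def]
            ring
        map_zero' := by
          have h1 : q 0 = 0 := by
            have := qadd 0 0
            simpa using this
          simp [h1]
        map_add' := fun a b => by
          ext
          · simp
          · simp [qadd] }
    have hfk : hf.comp (scalAt G (e0 G)) = algebraMap k (DualNumber K) := by
      refine RingHom.ext fun c => ?_
      have hq : q (algebraMap k R c) = 0 := by
        have : p (algebraMap k R c) = 0 := Subtype.ext (by simp [p, hevc])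
        show f _ = 0
        rw [this, map_zero, map_zero]
      show inl (algebraMap k K (ev (algebraMap k R c))) + inr (q (algebraMap k R c)) = _
      rw [hq, hevc, inr_zero, add_zero]
      rfl
    let g : specOver k (DualNumber K) ⟶ G :=
      Over.homMk (Spec.map (CommRingCat.ofHom hf) ≫ G.left.fromSpecStalk (e0 G)) (by
        rw [Category.assoc, ← scalAt_spec, ← Spec.map_comp, ← CommRingCat.ofHom_comp, hfk]
        rfl)
    have hg : specHom (sp k K) ≫ g = 1 := by
      refine Over.OverMorphism.ext ?_
      rw [one_left, Over.comp_left]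
      show Spec.map _ ≫ Spec.map _ ≫ _ = _
      rw [← hev, ← Category.assoc, ← Category.assoc, ← Spec.map_comp, ← Spec.map_comp, ← CommRingCat.ofHom_comp,
        ← CommRingCat.ofHom_comp]
      congr 3
      refine RingHom.ext fun r => ?_
      show (inl (algebraMap k K (ev r)) + inr (q r) : DualNumber K).fst = _
      simp only [fst_add, fst_inl, fst_inr, add_zero]
      rfl
    obtain ⟨x, hx⟩ := (hrange g).2 hg
    refine ⟨x, extF _ _ fun a => ?_⟩
    show F x _ = _
    rw [hF, hom_ext G (hh x) (h' := hf) rfl hx]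
    show (inl (algebraMap k K (ev a)) + inr (q a) : DualNumber K).snd = _
    simp only [snd_add, snd_inl, snd_inr, zero_add]
    show f _ = f _
    congr 2
    refine Subtype.ext ?_
    show (a : R) - algebraMap k R (ev a) = a
    rw [show ev a = 0 from (show (a : R) ∈ RingHom.ker ev by rw [hker]; exact a.2), map_zero, sub_zero]

end Groth.Agent.PicTangent
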